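import Groth.Agent.CommMult.Conil
import Groth.Agent.DiagUnip.Fixed
import Groth.Agent.UnipMult.Pointed
import Groth.Agent.MultT.Diag
import Groth.Agent.MultT.BaseChange
import Mathlib.FieldTheory.IsAlgClosed.AlgebraicClosure

/-!
# The largest subgroup of multiplicative type of a commutative group
-/

set_option autoImplicit false
set_option linter.style.haveILetI false
set_option linter.unusedSectionVars false

universe u

open TensorProduct Coalgebra
open Groth.Agent.Comod
open Groth.Agent.UnipConil
open Groth.Agent.DiagUnip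
open scoped Groth.Agent.Comod

noncomputable section

namespace Groth.Agent.CommMult

variable {k : Type u} [Field k] {A : Type u} [CommRing A] [HopfAlgebra k A]

theorem isCocomm_quot [IsCocomm k A] (I : Ideal A) [I.IsHopfIdeal k] : IsCocomm k (A ⧸ I) where
  comm_comp_comul := LinearMap.ext fun y => by
    obtain ⟨a, rfl⟩ := Ideal.Quotient.mk_surjective y
    have key : ∀ z : A ⊗[k] A, TensorProduct.comm k (A ⧸ I) (A ⧸ I)
        (Algebra.TensorProduct.map (Ideal.Quotient.mkₐ k I) (Ideal.Quotient.mkₐ k I) z) =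
        Algebra.TensorProduct.map (Ideal.Quotient.mkₐ k I) (Ideal.Quotient.mkₐ k I) (TensorProduct.comm k A A z) := by
      intro z
      induction z using TensorProduct.induction_on with
      | zero => simp
      | add u v hu hv => simp only [map_add, hu, hv]
      | tmul u v => rfl
    show TensorProduct.comm k (A ⧸ I) (A ⧸ I)
        (Algebra.TensorProduct.map (Ideal.Quotient.mkₐ k I) (Ideal.Quotient.mkₐ k I) (Coalgebra.comul a)) =
      Algebra.TensorProduct.map (Ideal.Quotient.mkₐ k I) (Ideal.Quotient.mkₐ k I) (Coalgebra.comul a)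
    rw [key, Coalgebra.comm_comul]

/-- The quotient by the conilpotent part has no primitive elements. -/
theorem prim_eq_zero [IsCocomm k A] [(aug (conilAlg k A)).IsHopfIdeal k] (x : A ⧸ aug (conilAlg k A))
    (hx : comul (R := k) x = x ⊗ₜ[k] (1 : A ⧸ aug (conilAlg k A)) + (1 : A ⧸ aug (conilAlg k A)) ⊗ₜ[k] x) :
    x = 0 := by
  obtain ⟨b, rfl⟩ := Ideal.Quotient.mk_surjective x
  have hC := isSubHopf_conilAlg (k := k) (A := A)
  obtain ⟨f₀, hf₀⟩ := exists_lift hC b hx
  let f : A := f₀ - algebraMap k A (counit (R := k) f₀)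
  have hf : Takeuchi.dbar (k := k) (aug (conilAlg k A)) f =
      f ⊗ₜ[k] (1 : A ⧸ aug (conilAlg k A)) + (1 : A) ⊗ₜ[k] prj (conilAlg k A) b := by
    show Takeuchi.dbar (k := k) (aug (conilAlg k A)) (f₀ - algebraMap k A (counit (R := k) f₀)) =
      (f₀ - algebraMap k A (counit (R := k) f₀)) ⊗ₜ[k] (1 : A ⧸ aug (conilAlg k A)) + _
    rw [map_sub, hf₀, AlgHom.commutes, TensorProduct.sub_tmul, Algebra.TensorProduct.algebraMap_apply]
    abel
  have hε : counit (R := k) f = 0 := by simp [f]
  let P := Subalgebra.toSubmodule (conilAlg k A)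
  obtain ⟨e, he⟩ := exists_left_invariant hC hf
  have h1 : comul (R := k) f - (1 : A) ⊗ₜ[k] f ∈ LinearMap.range (P.subtype.lTensor A) := ⟨e, he⟩
  obtain ⟨N, hN⟩ : ∃ N, comul (R := k) f - (1 : A) ⊗ₜ[k] f - f ⊗ₜ[k] (1 : A) ∈
      LinearMap.range ((filt k A N).subtype.lTensor A) :=
    exists_bound_tensor (sub_mem h1 (tmul_mem_range f (conilAlg k A).one_mem))
  have hr : ∀ φ : A →ₗ[k] k, φ 1 = 0 → φ f = 0 → cL φ (comul (R := k) f) ∈ filt k A N := by
    intro φ h h'
    have := (mem_range_lTensor_iff _ _).mp hN φ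
    rwa [map_sub, map_sub, cL_tmul, cL_tmul, h, h', zero_smul, zero_smul, sub_zero, sub_zero] at this
  have hf' : f ∈ conilAlg k A := by
    refine ⟨N + 1, mem_filt_succ_of_cL fun φ hφ => ?_⟩
    have := (mem_range_lTensor_iff _ _).mp hN φ
    rw [map_sub, map_sub, cL_tmul, cL_tmul, hφ, zero_smul, sub_zero] at this
    have h2 : cL φ (comul (R := k) f) = (cL φ (comul (R := k) f) - φ f • (1 : A)) + φ f • (1 : A) :=
      (sub_add_cancel _ _).symm
    rw [h2]
    exact add_mem this (Submodule.smul_mem _ _ (one_mem_filt N))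
  have h3 := isPrim_of_dbar hC hf
  rw [prj_of_mem hf', hε, map_zero, zero_add] at h3
  exact h3.symm

theorem prim_baseChange {W : Type u} [CommRing W] [HopfAlgebra k W]
    (hW : ∀ x : W, comul (R := k) x = x ⊗ₜ[k] (1 : W) + (1 : W) ⊗ₜ[k] x → x = 0)
    (K : Type u) [Field K] [Algebra k K] (x : K ⊗[k] W)
    (hx : comul (R := K) x = x ⊗ₜ[K] (1 : K ⊗[k] W) + (1 : K ⊗[k] W) ⊗ₜ[K] x) : x = 0 := by
  let D : W →ₗ[k] W ⊗[k] W :=
    comul (R := k) - (TensorProduct.mk k W W).flip 1 - TensorProduct.mk k W W 1
  have hD : Function.Injective D := (injective_iff_map_eq_zero _).mpr fun w hw => hW w (by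
    simp only [D, LinearMap.sub_apply, LinearMap.flip_apply, TensorProduct.mk_apply, sub_eq_zero] at hw
    rw [sub_eq_iff_eq_add] at hw
    rw [hw]; abel)
  have key : ∀ y : K ⊗[k] W,
      TensorProduct.AlgebraTensorModule.distribBaseChange k K W W (D.lTensor K y) =
        comul (R := K) y - y ⊗ₜ[K] (1 : K ⊗[k] W) - (1 : K ⊗[k] W) ⊗ₜ[K] y := by
    intro y
    induction y using TensorProduct.induction_on with
    | zero => simp
    | add a b ha hb => simp only [map_add, ha, hb, TensorProduct.add_tmul, TensorProduct.tmul_add]; abel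
    | tmul c w =>
      rw [LinearMap.lTensor_tmul, TensorProduct.comul_tmul, CommSemiring.comul_apply]
      simp only [D, LinearMap.sub_apply, LinearMap.flip_apply, TensorProduct.mk_apply, TensorProduct.tmul_sub,
        map_sub, TensorProduct.AlgebraTensorModule.distribBaseChange_tmul]
      congr 1
      congr 1
      · generalize comul (R := k) w = t
        induction t using TensorProduct.induction_on with
        | zero => simp
        | tmul p q =>
          rw [TensorProduct.AlgebraTensorModule.distribBaseChange_tmul,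
            TensorProduct.AlgebraTensorModule.tensorTensorTensorComm_tmul]
          rw [show ((c ⊗ₜ[k] p) : K ⊗[k] W) = c • ((1 : K) ⊗ₜ[k] p) by simp [TensorProduct.smul_tmul'],
            TensorProduct.smul_tmul, TensorProduct.smul_tmul']
          simp
        | add a b ha hb => simp only [TensorProduct.tmul_add, map_add, ha, hb]
      · rw [Algebra.TensorProduct.one_def,
          show ((c ⊗ₜ[k] (1 : W)) : K ⊗[k] W) = c • ((1 : K) ⊗ₜ[k] (1 : W)) by simp [TensorProduct.smul_tmul'],
          TensorProduct.smul_tmul, TensorProduct.smul_tmul', smul_eq_mul, mul_one]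
  have h0 : TensorProduct.AlgebraTensorModule.distribBaseChange k K W W (D.lTensor K x) = 0 := by
    rw [key, hx]; abel
  rw [LinearEquiv.map_eq_zero_iff] at h0
  exact Module.Flat.lTensor_preserves_injective_linearMap D hD (h0.trans (map_zero _).symm)

theorem isMultTypeConst_quot [IsCocomm k A] [(aug (conilAlg k A)).IsHopfIdeal k] :
    SGA3b.IsMultTypeConst k (A ⧸ aug (conilAlg k A)) := by
  haveI : IsCocomm k (A ⧸ aug (conilAlg k A)) := isCocomm_quot _
  let K := AlgebraicClosure k
  refine ⟨K, inferInstance, inferInstance, inferInstance,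
    MultT.isDiag_of_span (UnipMult.span_groupLike_eq_top (K := K) (C := K ⊗[k] (A ⧸ aug (conilAlg k A)))
      (fun x hx => prim_baseChange (W := A ⧸ aug (conilAlg k A)) (fun y hy => prim_eq_zero (k := k) (A := A) y hy) K x hx))⟩

/-- A diagonalisable Hopf algebra over a field has trivial conilpotent part. -/
theorem filt_eq_bot_of_isDiag {W : Type u} [CommRing W] [HopfAlgebra k W] (h : SGA3b.IsDiag k W) :
    ∀ n, filt k W n ≤ Submodule.span k {(1 : W)} := by
  classical
  obtain ⟨M, _, ⟨G⟩⟩ := exists_GBasis h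
  intro n
  induction n with
  | zero => exact le_rfl
  | succ n ih =>
    intro c hc
    refine Submodule.mem_span_singleton.mpr ⟨G.e.repr c 1, G.e.repr.injective (Finsupp.ext fun m => ?_)⟩
    rw [map_smul, Finsupp.smul_apply, G.repr_one]
    split_ifs with hm
    · subst hm; simp
    · rw [smul_zero]
      have h1 : (G.e.coord m) 1 = 0 := by rw [Module.Basis.coord_apply, G.repr_one, if_neg hm]
      have h2 := mem_filt_succ.mp hc (G.e.coord m) (G.e.coord m) h1 fun x hx => by
        obtain ⟨a, rfl⟩ := Submodule.mem_span_singleton.mp (ih hx)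
        rw [map_smul, h1, smul_zero]
      rw [show pair k W (G.e.coord m) (G.e.coord m) c = G.cf (comul (R := k) c) m m from ?_, G.cf_comul, if_pos rfl] at h2
      · exact h2.symm
      · show LinearMap.mul' k k (TensorProduct.map (G.e.coord m) (G.e.coord m) (comul (R := k) c)) = _
        generalize comul (R := k) c = t
        induction t using TensorProduct.induction_on with
        | zero => simp [GBasis.cf]
        | tmul p q => simp [G.cf_tmul]
        | add p q hp hq => simp only [map_add, hp, hq, G.cf_add]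

theorem filt_map {W : Type u} [CommRing W] [Bialgebra k W] (p : A →ₐc[k] W) :
    ∀ (n : ℕ) (a : A), a ∈ filt k A n → p a ∈ filt k W n := by
  intro n
  induction n with
  | zero =>
    intro a ha
    obtain ⟨c, rfl⟩ := Submodule.mem_span_singleton.mp ha
    rw [map_smul, map_one]
    exact Submodule.smul_mem _ _ (one_mem_filt 0)
  | succ n ih =>
    intro a ha
    refine mem_filt_succ.mpr fun f g hf hg => ?_
    let pl : A →ₗ[k] W := (p : A →ₐ[k] W).toLinearMap
    have := mem_filt_succ.mp ha (f ∘ₗ pl) (g ∘ₗ pl) (by simp [pl, hf]) (fun x hx => hg _ (ih x hx))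
    rw [← this]
    show LinearMap.mul' k k (TensorProduct.map f g (comul (R := k) (p a))) =
      LinearMap.mul' k k (TensorProduct.map (f ∘ₗ pl) (g ∘ₗ pl) (comul (R := k) a))
    rw [← CoalgHomClass.map_comp_comul_apply p a, TensorProduct.map_comp]
    rfl

/-- The conilpotent part dies in every subgroup of multiplicative type. -/
theorem aug_le (I : Ideal A) [I.IsHopfIdeal k] (h : SGA3b.IsMultTypeConst k (A ⧸ I)) :
    aug (conilAlg k A) ≤ I := by
  obtain ⟨R, _, _, hR, hd⟩ := h
  haveI := hR
  haveI : Nontrivial R := (FaithfulSMul.algebraMap_injective k R).nontrivial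
  obtain ⟨P, hP⟩ := Ideal.exists_maximal R
  let L := R ⧸ P
  letI : Field L := Ideal.Quotient.field P
  have hdL : SGA3b.IsDiag L (L ⊗[k] (A ⧸ I)) := MultT.isDiag_baseChange hd L
  refine Ideal.span_le.mpr ?_
  rintro a ⟨⟨n, hn⟩, hε⟩
  have h1 := filt_map (Bialgebra.Quotient.mkBialgHom I) n a hn
  have h2 := filt_eq_bot_of_isDiag hdL n (ι_mem_filt L n _ h1)
  obtain ⟨c, hc⟩ := Submodule.mem_span_singleton.mp h2
  have h3 := congrArg (counit (R := L)) hc
  rw [map_smul, Bialgebra.counit_one, smul_eq_mul, mul_one] at h3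
  have hc0 : c = 0 := h3.trans (by
    show counit (R := L) ((1 : L) ⊗ₜ[k] Ideal.Quotient.mk I a) = 0
    rw [TensorProduct.counit_tmul]
    show counit (R := k) a • (1 : L) = 0
    rw [hε, zero_smul])
  rw [hc0, zero_smul] at hc
  have hinj : Function.Injective (ι (k := k) (A := A ⧸ I) L) :=
    Algebra.TensorProduct.includeRight_injective (FaithfulSMul.algebraMap_injective k L)
  exact Ideal.Quotient.eq_zero_iff_mem.mp (hinj (hc.symm.trans (map_zero _).symm))

attribute [local instance] conilHopf

theorem exists_largest [IsCocomm k A] :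
    ∃ (J : Ideal A) (_ : J.IsHopfIdeal k), SGA3b.IsMultTypeConst k (A ⧸ J) ∧
      (∀ (I : Ideal A) [I.IsHopfIdeal k], SGA3b.IsMultTypeConst k (A ⧸ I) → J ≤ I) ∧
      ∃ (B : Type u) (_ : CommRing B) (_ : HopfAlgebra k B) (φ : B →ₐc[k] A), Function.Injective φ ∧
        J = Ideal.map (φ : B →+* A) (RingHom.ker (Bialgebra.counitAlgHom k B)) ∧ HopfRep.IsUnipotent k B := by
  haveI := isHopfIdeal_aug (isSubHopf_conilAlg (k := k) (A := A))
  refine ⟨aug (conilAlg k A), inferInstance, isMultTypeConst_quot, fun I _ hI => aug_le I hI,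
    conilAlg k A, inferInstance, conilHopf k A, conilIncl k A, Subtype.val_injective, ?_, isUnipotent_conilAlg⟩
  show Ideal.span _ = Ideal.span _
  congr 1
  ext a
  constructor
  · rintro ⟨ha, h0⟩
    exact ⟨⟨a, ha⟩, h0, rfl⟩
  · rintro ⟨b, hb, rfl⟩
    exact ⟨b.2, hb⟩

end Groth.Agent.CommMult
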