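import Groth.Agent.CommMult.Main
import Groth.Agent.UnipConil.Comodules
import Groth.Agent.TrigExh.GlKernel
import Mathlib.LinearAlgebra.Eigenspace.Triangularizable

/-!
# Group-like elements of cocommutative Hopf algebras over algebraically closed fields
-/

set_option autoImplicit false
set_option linter.style.haveILetI false
set_option linter.unusedSectionVars false

universe u

open TensorProduct Coalgebra
open Groth.Agent.Comod
open scoped Groth.Agent.Comod

noncomputable section

namespace Groth.Agent.CommMult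

section Conil

variable {K : Type u} [Field K] {X : Type u} [CommRing X] [Bialgebra K X]

/-- A group-like element in the conilpotent part is trivial. -/
theorem groupLike_eq_one_of_filt {g : X} (hg : IsGroupLikeElem K g) :
    ∀ n, g ∈ UnipConil.filt K X n → g = 1 := by
  intro n
  induction n with
  | zero =>
    intro h
    obtain ⟨a, ha⟩ := Submodule.mem_span_singleton.mp h
    have := hg.counit_eq_one
    rw [← ha, map_smul, Bialgebra.counit_one, smul_eq_mul, mul_one] at this
    rw [← ha, this, one_smul]
  | succ n ih =>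
    intro h
    by_contra hne
    have h1 : g ∉ UnipConil.filt K X n := fun h' => hne (ih h')
    have h2 : g ∉ Submodule.span K {(1 : X)} := fun h' => h1 (UnipConil.filt_mono (Nat.zero_le n) h')
    obtain ⟨φ, hφ1, hφ2⟩ := Submodule.exists_dual_map_eq_bot_of_notMem h1 inferInstance
    obtain ⟨ψ, hψ1, hψ2⟩ := Submodule.exists_dual_map_eq_bot_of_notMem h2 inferInstance
    have := UnipConil.mem_filt_succ.mp h ψ φ
      ((Submodule.mem_bot K).1 (hψ2 ▸ Submodule.mem_map_of_mem (Submodule.mem_span_singleton_self (1 : X))))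
      (fun x hx => (Submodule.mem_bot K).1 (hφ2 ▸ Submodule.mem_map_of_mem hx))
    rw [TrigExh.pair_groupLike ψ φ hg] at this
    exact (mul_ne_zero hψ1 hφ1) this

end Conil

variable {K : Type u} [Field K] [IsAlgClosed K] {X : Type u} [CommRing X] [HopfAlgebra K X] [IsCocomm K X]

theorem cdual_mul_comm (f g : CDual K X) : f * g = g * f := by
  refine WithConv.ofConv_injective (LinearMap.ext fun a => ?_)
  simp only [LinearMap.convMul_def, WithConv.ofConv_toConv, LinearMap.comp_apply]
  conv_rhs => rw [← Coalgebra.comm_comul (R := K) a]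
  generalize comul (R := K) a = t
  induction t using TensorProduct.induction_on with
  | zero => simp
  | tmul x y => simp [mul_comm]
  | add x y hx hy => simp only [map_add, hx, hy]

/-- Commutative groups over algebraically closed fields are trigonalisable. -/
theorem isTrigonalizable_of_cocomm : HopfRep.IsTrigonalizable K X := by
  intro V _ _ _ _ hV
  haveI := hV.1
  have hscal : ∀ f : CDual K X, ∃ μ : K, ∀ v : V, dact K X V f v = μ • v := by
    intro f
    obtain ⟨μ, hμ⟩ := Module.End.exists_eigenvalue (dact K X V f)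
    refine ⟨μ, fun v => ?_⟩
    have hW : HopfRep.IsSubcomod (k := K) (A := X) (Module.End.eigenspace (dact K X V f) μ) := by
      refine isSubcomod_iff.mpr fun g w hw => ?_
      rw [Module.End.mem_eigenspace_iff] at hw ⊢
      have e : dact K X V f (dact K X V g w) = dact K X V g (dact K X V f w) := by
        show (dact K X V f * dact K X V g) w = (dact K X V g * dact K X V f) w
        rw [← map_mul, ← map_mul, cdual_mul_comm]
      rw [e, hw, map_smul]
    rcases hV.2 _ hW with h0 | h1
    · exact absurd h0 hμ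
    · exact Module.End.mem_eigenspace_iff.mp (h1 ▸ Submodule.mem_top)
  obtain ⟨v, hv⟩ := exists_ne (0 : V)
  have hW : HopfRep.IsSubcomod (k := K) (A := X) (Submodule.span K {v}) := by
    refine isSubcomod_iff.mpr fun f w hw => ?_
    obtain ⟨μ, hμ⟩ := hscal f
    rw [hμ]
    exact Submodule.smul_mem _ _ hw
  rcases hV.2 _ hW with h0 | h1
  · exact absurd (Submodule.span_singleton_eq_bot.mp h0) hv
  · rw [← finrank_top, ← h1, finrank_span_singleton hv]

variable {Y : Type u} [CommRing Y] [HopfAlgebra K Y]

/-- The vectors of a given weight form a stable subspace. -/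
def weight (q : X →ₐc[K] Y) (γ : Y) : Submodule K X :=
  LinearMap.ker ((q : X →ₗ[K] Y).lTensor X ∘ₗ comul (R := K) (A := X) - (TensorProduct.mk K X Y).flip γ)

theorem mem_weight {q : X →ₐc[K] Y} {γ : Y} {a : X} :
    a ∈ weight q γ ↔ (q : X →ₗ[K] Y).lTensor X (comul (R := K) a) = a ⊗ₜ[K] γ := by
  simp [weight, sub_eq_zero]

theorem cR_lTensor_q (q : X →ₐc[K] Y) (φ : Y →ₗ[K] K) (t : X ⊗[K] X) :
    cR φ ((q : X →ₗ[K] Y).lTensor X t) = cR (φ ∘ₗ (q : X →ₗ[K] Y)) t := by
  induction t using TensorProduct.induction_on with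
  | zero => simp
  | tmul x y => simp
  | add x y hx hy => simp only [map_add, hx, hy]

theorem mem_weight_iff {q : X →ₐc[K] Y} {γ : Y} {a : X} :
    a ∈ weight q γ ↔ ∀ φ : Y →ₗ[K] K,
      dact K X X (WithConv.toConv (φ ∘ₗ (q : X →ₗ[K] Y))) a = φ γ • a := by
  rw [mem_weight]
  constructor
  · intro h φ
    have := congrArg (cR φ) h
    rw [cR_lTensor_q, cR_tmul] at this
    exact this
  · intro h
    refine tensor_eq_of_cR fun φ => ?_
    rw [cR_lTensor_q, cR_tmul]
    exact h φ

theorem isSubcomod_weight (q : X →ₐc[K] Y) (γ : Y) :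
    HopfRep.IsSubcomod (k := K) (A := X) (weight q γ) := by
  refine isSubcomod_iff.mpr fun f a ha => mem_weight_iff.mpr fun φ => ?_
  have e : dact K X X (WithConv.toConv (φ ∘ₗ (q : X →ₗ[K] Y))) (dact K X X f a) =
      dact K X X f (dact K X X (WithConv.toConv (φ ∘ₗ (q : X →ₗ[K] Y))) a) := by
    show (dact K X X _ * dact K X X f) a = (dact K X X f * dact K X X _) a
    rw [← map_mul, ← map_mul, cdual_mul_comm]
  rw [e, mem_weight_iff.mp ha, map_smul]

/-- Characters of a diagonalisable subgroup extend. -/
theorem exists_groupLike_lift (q : X →ₐc[K] Y) (hq : Function.Surjective q) (hY : SGA3b.IsDiag K Y)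
    {γ : Y} (hγ : IsGroupLikeElem K γ) : ∃ g : X, IsGroupLikeElem K g ∧ q g = γ := by
  classical
  obtain ⟨M, _, ⟨G⟩⟩ := DiagUnip.exists_GBasis hY
  -- the index of `γ`
  obtain ⟨m, hm⟩ : ∃ m, G.e.repr γ m ≠ 0 := by
    by_contra h
    push Not at h
    exact hγ.ne_zero (G.e.repr.injective (Finsupp.ext fun m => by simp [h m]))
  have hγe : γ = G.e m := by
    have h : ∀ a b, (if a = b then G.e.repr γ a else 0) = G.e.repr γ a * G.e.repr γ b := fun a b => by
      rw [← G.cf_comul, hγ.comul_eq_tmul_self, G.cf_tmul]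
    have h1 : G.e.repr γ m = 1 := by
      have := h m m
      rw [if_pos rfl] at this
      exact (mul_right_eq_self₀.mp this.symm).resolve_right hm
    refine G.e.repr.injective (Finsupp.ext fun a => ?_)
    rw [G.repr_e]
    split_ifs with ha
    · subst ha; exact h1
    · have := h m a
      rw [if_neg (Ne.symm ha), h1, one_mul] at this
      exact this.symm
  obtain ⟨a, ha⟩ := hq γ
  let x : X := dact K X X (WithConv.toConv ((G.e.coord m) ∘ₗ (q : X →ₗ[K] Y))) a
  have hqx : q x = γ := by
    have h : ∀ t : X ⊗[K] X, q (cR ((G.e.coord m) ∘ₗ (q : X →ₗ[K] Y)) t) =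
        cR (G.e.coord m) (TensorProduct.map (q : X →ₐ[K] Y).toLinearMap (q : X →ₐ[K] Y).toLinearMap t) := by
      intro t
      induction t using TensorProduct.induction_on with
      | zero => simp
      | tmul p r => simp
      | add p r hp hr => simp only [map_add, hp, hr]
    show q (cR _ (comul (R := K) a)) = γ
    rw [h, ← HopfRange.comul_map, ha, hγ.comul_eq_tmul_self, cR_tmul, hγe, Module.Basis.coord_apply, G.repr_e,
      if_pos rfl, one_smul]
  have hxW : x ∈ weight q γ := mem_weight_iff.mpr fun φ => by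
    show dact K X X (WithConv.toConv (φ ∘ₗ (q : X →ₗ[K] Y))) (dact K X X _ a) = _
    have e : (WithConv.toConv (φ ∘ₗ (q : X →ₗ[K] Y)) * WithConv.toConv ((G.e.coord m) ∘ₗ (q : X →ₗ[K] Y)) : CDual K X) =
        φ γ • WithConv.toConv ((G.e.coord m) ∘ₗ (q : X →ₗ[K] Y)) := by
      refine WithConv.ofConv_injective (LinearMap.ext fun b => ?_)
      simp only [LinearMap.convMul_def, WithConv.ofConv_toConv, WithConv.ofConv_smul, LinearMap.comp_apply,
        LinearMap.smul_apply, smul_eq_mul]
      have h : ∀ t : X ⊗[K] X, LinearMap.mul' K K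
          (TensorProduct.map (φ ∘ₗ (q : X →ₗ[K] Y)) ((G.e.coord m) ∘ₗ (q : X →ₗ[K] Y)) t) =
          LinearMap.mul' K K (TensorProduct.map φ (G.e.coord m)
            (TensorProduct.map (q : X →ₐ[K] Y).toLinearMap (q : X →ₐ[K] Y).toLinearMap t)) := by
        intro t
        induction t using TensorProduct.induction_on with
        | zero => simp
        | tmul p r => simp
        | add p r hp hr => simp only [map_add, hp, hr]
      rw [h, ← HopfRange.comul_map]
      show LinearMap.mul' K K (TensorProduct.map φ (G.e.coord m) (comul (R := K) (q b))) = _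
      generalize hy : q b = y
      rw [show (q : X →ₗ[K] Y) b = y from hy, hγe]
      clear hy h
      let L : Y →ₗ[K] K := LinearMap.mul' K K ∘ₗ TensorProduct.map φ (G.e.coord m) ∘ₗ comul (R := K)
      have : L = φ (G.e m) • G.e.coord m := G.e.ext fun j => by
        simp only [L, LinearMap.comp_apply, G.comul', TensorProduct.map_tmul, LinearMap.mul'_apply,
          LinearMap.smul_apply, Module.Basis.coord_apply, G.repr_e, smul_eq_mul]
        split_ifs with hj
        · rw [hj]
        · ring
      exact LinearMap.congr_fun this y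
    show (dact K X X _ * dact K X X _) a = _
    rw [← map_mul, e, map_smul]
    rfl
  have hx0 : x ≠ 0 := fun h => hγ.ne_zero (by rw [← hqx, h, map_zero])
  obtain ⟨S, hxS, hfin⟩ := exists_finite_subcomod (K := K) (C := X) (V := X) x
  let W : Submodule K X := weight q γ ⊓ ofDSub S
  have hW : HopfRep.IsSubcomod (k := K) (A := X) W := isSubcomod_iff.2 fun f w hw =>
    ⟨isSubcomod_iff.1 (isSubcomod_weight q γ) f w hw.1, isSubcomod_iff.1 (isSubcomod_ofDSub S) f w hw.2⟩
  haveI : Module.Finite K W := Submodule.finiteDimensional_of_le (S₂ := ofDSub S) inf_le_right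
  haveI : Nontrivial W := ⟨⟨x, hxW, hxS⟩, 0, fun h => hx0 (congrArg Subtype.val h)⟩
  letI cW : HopfRep.Comod K X W := ComodSub.Comod.restr (HopfRep.Comod.regular K X) W hW
  obtain ⟨y, δ, hy, hyδ⟩ := TrigExh.exists_eigenline (isTrigonalizable_of_cocomm (K := K) (X := X)) W
  have hcy : comul (R := K) (y : X) = (y : X) ⊗ₜ[K] δ := by
    have h1 := ComodSub.restr_coact_coe (HopfRep.Comod.regular K X) W hW y
    rw [show cW.coact y = y ⊗ₜ[K] δ from hyδ, LinearMap.rTensor_tmul] at h1
    exact h1.symm
  have hyδ' : (y : X) = counit (R := K) (y : X) • δ := by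
    have := congrArg (cL (counit (R := K) (A := X))) hcy
    rwa [cL_counit_comul, cL_tmul] at this
  have hε : counit (R := K) (y : X) ≠ 0 := fun h => hy (Subtype.ext (by rw [hyδ', h, zero_smul]; rfl))
  generalize hc : counit (R := K) (y : X) = c at hyδ' hε
  have hδ : IsGroupLikeElem K δ := by
    refine ⟨?_, ?_⟩
    · have h1 := congrArg (counit (R := K)) hyδ'
      rw [map_smul, smul_eq_mul, hc] at h1
      exact mul_left_cancel₀ hε (h1.symm.trans (mul_one _).symm)
    · rw [hyδ', map_smul] at hcy
      have h2 : c • comul (R := K) δ = c • (δ ⊗ₜ[K] δ) := by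
        rw [hcy, TensorProduct.smul_tmul']
      exact smul_right_injective _ hε h2
  refine ⟨δ, hδ, ?_⟩
  have hmem : δ ∈ weight q γ := by
    have : c⁻¹ • (y : X) ∈ weight q γ := Submodule.smul_mem _ _ y.2.1
    rwa [hyδ', inv_smul_smul₀ hε] at this
  have h3 := congrArg (cL (counit (R := K) (A := X))) (mem_weight.mp hmem)
  rw [cL_lTensor, cL_counit_comul, cL_tmul, hδ.counit_eq_one, one_smul] at h3
  exact h3

end Groth.Agent.CommMult
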