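import Groth.Agent.UnipConil.Points
import Groth.Agent.Comod.FlatSub
import Groth.Agent.Comod.Reductive
import Groth.Agent.FinHopf.Sub

/-!
# The conilpotent part of a commutative Hopf algebra
-/

set_option autoImplicit false
set_option linter.style.haveILetI false
set_option linter.unusedSectionVars false

universe u v

open TensorProduct Coalgebra
open Groth.Agent.Comod
open Groth.Agent.UnipConil
open scoped Groth.Agent.Comod

noncomputable section

namespace Groth.Agent.CommMult

section Bialg

variable {k : Type u} [Field k] {A : Type v} [CommRing A] [Bialgebra k A]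

theorem cL_counit_comul (a : A) : cL (counit (R := k) (A := A)) (comul (R := k) a) = a := by
  show TensorProduct.lid k A ((counit (R := k) (A := A)).rTensor A (comul (R := k) a)) = a
  rw [Coalgebra.rTensor_counit_comul]; simp

theorem cL_sub_left (f g : A →ₗ[k] k) (t : A ⊗[k] A) : cL (f - g) t = cL f t - cL g t := by
  simp [cL, LinearMap.rTensor_sub]

theorem cL_smul_left (c : k) (f : A →ₗ[k] k) (t : A ⊗[k] A) : cL (c • f) t = c • cL f t := by
  simp [cL, LinearMap.rTensor_smul]

theorem cL_comul_eq (f : A →ₗ[k] k) (a : A) : cL f (comul (R := k) a) =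
    cL (f - f 1 • counit (R := k) (A := A)) (comul (R := k) a) + f 1 • a := by
  rw [cL_sub_left, cL_smul_left, cL_counit_comul, sub_add_cancel]

theorem cL_mem_self {n : ℕ} {c : A} (hc : c ∈ filt k A n) (f : A →ₗ[k] k) :
    cL f (comul (R := k) c) ∈ filt k A n := by
  rw [cL_comul_eq]
  exact Submodule.add_mem _ (cL_mem (filt_le_succ n hc) (by simp)) (Submodule.smul_mem _ _ hc)

/-- Membership in a stage of the filtration through left contractions. -/
theorem mem_filt_succ_of_cL {n : ℕ} {a : A}
    (h : ∀ f : A →ₗ[k] k, f 1 = 0 → cL f (comul (R := k) a) ∈ filt k A n) : a ∈ filt k A (n + 1) :=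
  mem_filt_succ.mpr fun f g hf hg => by rw [pair_eq_cL]; exact hg _ (h f hf)

theorem sub_mem_range {n : ℕ} {a : A} (ha : a ∈ filt k A (n + 1)) :
    comul (R := k) a - (1 : A) ⊗ₜ[k] a ∈ LinearMap.range ((filt k A n).subtype.lTensor A) := by
  rw [mem_range_lTensor_iff]
  intro f
  rw [map_sub, cL_tmul, cL_comul_eq, add_sub_cancel_right]
  exact cL_mem ha (by simp)

theorem tmul_mem_range {W : Submodule k A} (x : A) {y : A} (hy : y ∈ W) :
    x ⊗ₜ[k] y ∈ LinearMap.range (W.subtype.lTensor A) :=
  ⟨x ⊗ₜ ⟨y, hy⟩, rfl⟩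

theorem mul_mem_range {W₁ W₂ W₃ : Submodule k A} (h : ∀ x ∈ W₁, ∀ y ∈ W₂, x * y ∈ W₃) {s t : A ⊗[k] A}
    (hs : s ∈ LinearMap.range (W₁.subtype.lTensor A)) (ht : t ∈ LinearMap.range (W₂.subtype.lTensor A)) :
    s * t ∈ LinearMap.range (W₃.subtype.lTensor A) := by
  obtain ⟨s, rfl⟩ := hs
  obtain ⟨t, rfl⟩ := ht
  induction s using TensorProduct.induction_on with
  | zero => simp
  | add x y hx hy => rw [map_add, add_mul]; exact add_mem hx hy
  | tmul x x' =>
    induction t using TensorProduct.induction_on with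
    | zero => simp
    | add a b ha hb => rw [map_add, mul_add]; exact add_mem ha hb
    | tmul a a' =>
      rw [LinearMap.lTensor_tmul, LinearMap.lTensor_tmul, Algebra.TensorProduct.tmul_mul_tmul]
      exact tmul_mem_range _ (h _ x'.2 _ a'.2)

theorem filt_mul_aux : ∀ (N n m : ℕ), n + m = N → ∀ a ∈ filt k A n, ∀ b ∈ filt k A m,
    a * b ∈ filt k A N := by
  intro N
  induction N using Nat.strong_induction_on with
  | _ N ih =>
    intro n m hnm a ha b hb
    obtain rfl | ⟨n, rfl⟩ : n = 0 ∨ ∃ n', n = n' + 1 :=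
      n.eq_zero_or_pos.imp_right fun h => ⟨n - 1, by omega⟩
    · obtain ⟨c, rfl⟩ := Submodule.mem_span_singleton.mp ha
      rw [smul_one_mul, show N = m by omega]
      exact Submodule.smul_mem _ _ hb
    obtain rfl | ⟨m, rfl⟩ : m = 0 ∨ ∃ m', m = m' + 1 :=
      m.eq_zero_or_pos.imp_right fun h => ⟨m - 1, by omega⟩
    · obtain ⟨c, rfl⟩ := Submodule.mem_span_singleton.mp hb
      rw [mul_smul_comm, mul_one, show N = n + 1 by omega]
      exact Submodule.smul_mem _ _ ha
    obtain ⟨M, rfl⟩ : ∃ M, N = M + 1 := ⟨N - 1, by omega⟩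
    refine mem_filt_succ_of_cL fun f hf => ?_
    have hx := sub_mem_range ha
    have hy := sub_mem_range hb
    set x := comul (R := k) a - (1 : A) ⊗ₜ[k] a with hxdef
    set y := comul (R := k) b - (1 : A) ⊗ₜ[k] b with hydef
    have e : comul (R := k) (a * b) =
        (1 : A) ⊗ₜ[k] (a * b) + (((1 : A) ⊗ₜ[k] a) * y + x * ((1 : A) ⊗ₜ[k] b) + x * y) := by
      rw [Bialgebra.comul_mul, hxdef, hydef, show (1 : A) ⊗ₜ[k] (a * b) = ((1 : A) ⊗ₜ[k] a) * ((1 : A) ⊗ₜ[k] b) by
        rw [Algebra.TensorProduct.tmul_mul_tmul, one_mul]]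
      ring
    rw [e, map_add, cL_tmul, hf, zero_smul, zero_add]
    refine (mem_range_lTensor_iff (filt k A M) _).mp (add_mem (add_mem ?_ ?_) ?_) f
    · exact mul_mem_range (fun p hp q hq => ih M (by omega) (n + 1) m (by omega) p hp q hq) (tmul_mem_range _ ha) hy
    · exact mul_mem_range (fun p hp q hq => ih M (by omega) n (m + 1) (by omega) p hp q hq) hx (tmul_mem_range _ hb)
    · exact mul_mem_range (fun p hp q hq => filt_mono (show n + m ≤ M by omega)
        (ih (n + m) (by omega) n m rfl p hp q hq)) hx hy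

theorem filt_mul {n m : ℕ} {a b : A} (ha : a ∈ filt k A n) (hb : b ∈ filt k A m) :
    a * b ∈ filt k A (n + m) := filt_mul_aux _ n m rfl a ha b hb

variable (k A) in
/-- The conilpotent part. -/
def conilAlg : Subalgebra k A where
  carrier := {a | ∃ n, a ∈ filt k A n}
  zero_mem' := ⟨0, Submodule.zero_mem _⟩
  one_mem' := ⟨0, one_mem_filt 0⟩
  add_mem' := by
    rintro a b ⟨n, hn⟩ ⟨m, hm⟩
    exact ⟨max n m, add_mem (filt_mono (le_max_left n m) hn) (filt_mono (le_max_right n m) hm)⟩
  mul_mem' := by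
    rintro a b ⟨n, hn⟩ ⟨m, hm⟩
    exact ⟨n + m, filt_mul hn hm⟩
  algebraMap_mem' r := ⟨0, by rw [Algebra.algebraMap_eq_smul_one]; exact Submodule.smul_mem _ _ (one_mem_filt 0)⟩

theorem filt_le_conilAlg {n : ℕ} {a : A} (ha : a ∈ filt k A n) : a ∈ conilAlg k A := ⟨n, ha⟩

/-- A tensor with right factors in the conilpotent part has them in a bounded stage. -/
theorem exists_bound_tensor {t : A ⊗[k] A}
    (h : t ∈ LinearMap.range ((Subalgebra.toSubmodule (conilAlg k A)).subtype.lTensor A)) :
    ∃ n, t ∈ LinearMap.range ((filt k A n).subtype.lTensor A) := by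
  obtain ⟨s, rfl⟩ := h
  induction s using TensorProduct.induction_on with
  | zero => exact ⟨0, by simp⟩
  | tmul x y =>
    obtain ⟨n, hn⟩ := y.2
    exact ⟨n, tmul_mem_range x hn⟩
  | add a b ha hb =>
    obtain ⟨n, hn⟩ := ha
    obtain ⟨m, hm⟩ := hb
    have up : ∀ {i j : ℕ}, i ≤ j → ∀ {z : A ⊗[k] A}, z ∈ LinearMap.range ((filt k A i).subtype.lTensor A) →
        z ∈ LinearMap.range ((filt k A j).subtype.lTensor A) := fun {i j} hij {z} hz =>
      (mem_range_lTensor_iff _ _).mpr fun φ => filt_mono hij ((mem_range_lTensor_iff _ _).mp hz φ)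
    exact ⟨max n m, by rw [map_add]; exact add_mem (up (le_max_left n m) hn) (up (le_max_right n m) hm)⟩

end Bialg

section Hopf

variable {k : Type u} [Field k] {A : Type v} [CommRing A] [HopfAlgebra k A]

theorem antipode_mem : ∀ (n : ℕ) (a : A), a ∈ filt k A n → HopfAlgebra.antipode k a ∈ filt k A n := by
  intro n
  induction n with
  | zero =>
    intro a ha
    obtain ⟨c, rfl⟩ := Submodule.mem_span_singleton.mp ha
    rw [map_smul, HopfAlgebra.antipode_one]
    exact Submodule.smul_mem _ _ (one_mem_filt 0)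
  | succ n ih =>
    intro a ha
    refine mem_filt_succ_of_cL fun f hf => ?_
    rw [Comod.comul_antipode]
    have e : ∀ t : A ⊗[k] A, cL f (TensorProduct.comm k A A
        (TensorProduct.map (HopfAlgebra.antipode k) (HopfAlgebra.antipode k) t)) =
        HopfAlgebra.antipode k (cR (f ∘ₗ HopfAlgebra.antipode k) t) := fun t => by
      induction t using TensorProduct.induction_on with
      | zero => simp
      | tmul x y => simp
      | add x y hx hy => simp only [map_add, hx, hy]
    rw [e]
    exact ih _ (cR_mem ha (by simp [hf]))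

theorem isSubHopf_conilAlg : Groth.Agent.FlatSub.IsSubHopf k (conilAlg k A) := by
  refine ⟨fun a ha => ?_, fun a ha => ?_⟩
  · obtain ⟨n, hn⟩ := ha
    exact (mem_range_map_iff (Subalgebra.toSubmodule (conilAlg k A)) (Subalgebra.toSubmodule (conilAlg k A)) _).mpr
      ⟨fun f => ⟨n, cR_mem_self hn f⟩, fun f => ⟨n, cL_mem_self hn f⟩⟩
  · obtain ⟨n, hn⟩ := ha
    exact ⟨n, antipode_mem n a hn⟩

theorem comul_mem_subIncl₂ {a : A} (ha : a ∈ conilAlg k A) :
    comul (R := k) a ∈ (FinHopf.subIncl₂ (conilAlg k A)).range := by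
  obtain ⟨t, ht⟩ := isSubHopf_conilAlg.1 a ha
  exact ⟨t, ht⟩

variable (k A) in
/-- The Hopf algebra structure of the conilpotent part. -/
@[implicit_reducible]
def conilHopf : HopfAlgebra k (conilAlg k A) :=
  FinHopf.subHopf (conilAlg k A) (fun _ h => comul_mem_subIncl₂ h) (fun b h => isSubHopf_conilAlg.2 b h)

attribute [local instance] conilHopf

variable (k A) in
/-- The inclusion of the conilpotent part. -/
def conilIncl : conilAlg k A →ₐc[k] A :=
  BialgHom.ofAlgHom (conilAlg k A).val (AlgHom.ext fun _ => rfl)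
    (AlgHom.ext fun b => FinHopf.subIncl₂_subComul (conilAlg k A) (fun _ h => comul_mem_subIncl₂ h) b)

theorem conilIncl_apply (b : conilAlg k A) : conilIncl k A b = (b : A) := rfl

theorem isUnipotent_conilAlg : HopfRep.IsUnipotent k (conilAlg k A) := by
  refine isUnipotent_of_conil fun b => ?_
  obtain ⟨n, hn⟩ := b.2
  refine ⟨n, ?_⟩
  induction n generalizing b with
  | zero =>
    obtain ⟨c, hc⟩ := Submodule.mem_span_singleton.mp hn
    exact Submodule.mem_span_singleton.mpr ⟨c, Subtype.ext (by simpa using hc)⟩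
  | succ n ih =>
    refine mem_filt_succ.mpr fun f g hf hg => ?_
    obtain ⟨f', hf'⟩ := LinearMap.exists_extend (p := Subalgebra.toSubmodule (conilAlg k A)) f
    obtain ⟨g', hg'⟩ := LinearMap.exists_extend (p := Subalgebra.toSubmodule (conilAlg k A)) g
    have hf'' : ∀ x : conilAlg k A, f' (x : A) = f x := fun x => LinearMap.congr_fun hf' x
    have hg'' : ∀ x : conilAlg k A, g' (x : A) = g x := fun x => LinearMap.congr_fun hg' x
    have h := mem_filt_succ.mp hn f' g' (by rw [← OneMemClass.coe_one (conilAlg k A), hf'', hf])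
      (fun x hx => by rw [show x = ((⟨x, n, hx⟩ : conilAlg k A) : A) from rfl, hg'']; exact hg _ (ih _ hx))
    rw [← h]
    show LinearMap.mul' k k (TensorProduct.map f g (comul (R := k) b)) =
      LinearMap.mul' k k (TensorProduct.map f' g' (comul (R := k) (b : A)))
    rw [← FinHopf.subIncl₂_subComul (conilAlg k A) (fun _ h => comul_mem_subIncl₂ h) b]
    show LinearMap.mul' k k (TensorProduct.map f g (FinHopf.subComul (conilAlg k A) (fun _ h => comul_mem_subIncl₂ h) b)) = _
    generalize FinHopf.subComul (conilAlg k A) (fun _ h => comul_mem_subIncl₂ h) b = t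
    induction t using TensorProduct.induction_on with
    | zero => simp
    | tmul x y => simp [FinHopf.subIncl₂, hf'', hg'']
    | add x y hx hy => simp only [map_add, hx, hy]

end Hopf

end Groth.Agent.CommMult
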